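import Mathlib
import Cfsg.Agent.Lib.SZ.Conjugacy
import Cfsg.Agent.Lib.Burnside.Paqb

/-!
Subgroups of coprime index, the three-solvable-subgroups criterion, and Hall's converse.
-/

set_option autoImplicit false
open Pointwise

namespace Cfsg.Agent.Lib.Hall

universe u

variable {G : Type u} [Group G]

theorem index_inf_of_coprime [Finite G] (H K : Subgroup G) (h : H.index.Coprime K.index) :
    (H ⊓ K).index = H.index * K.index := by
  refine le_antisymm Subgroup.index_inf_le (Nat.le_of_dvd ?_ ?_)
  · exact Nat.pos_of_ne_zero Subgroup.index_ne_zero_of_finite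
  · exact h.mul_dvd_of_dvd_of_dvd (Subgroup.index_dvd_of_le inf_le_left)
      (Subgroup.index_dvd_of_le inf_le_right)

theorem relIndex_eq_index_of_coprime [Finite G] (H K : Subgroup G) (h : H.index.Coprime K.index) :
    H.relIndex K = H.index := by
  have h1 := Subgroup.relIndex_mul_index (show H ⊓ K ≤ K from inf_le_right)
  rw [Subgroup.inf_relIndex_right, index_inf_of_coprime H K h] at h1
  exact Nat.eq_of_mul_eq_mul_right (Nat.pos_of_ne_zero Subgroup.index_ne_zero_of_finite) h1

/-- Subgroups of coprime index have product the whole group. -/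
theorem exists_mul_of_coprime_index [Finite G] (H K : Subgroup G) (h : H.index.Coprime K.index)
    (g : G) : ∃ x ∈ H, ∃ y ∈ K, g = x * y := by
  let f : K ⧸ H.subgroupOf K → G ⧸ H :=
    Quotient.map' (fun k : K => (k : G)) fun a b hab => by
      rw [QuotientGroup.leftRel_apply] at hab ⊢
      exact hab
  have hf : Function.Injective f := by
    rintro ⟨a⟩ ⟨b⟩ hab
    refine QuotientGroup.eq.mpr ?_
    exact (QuotientGroup.eq (s := H)).mp hab
  have hbij : Function.Bijective f := by
    refine (Nat.bijective_iff_injective_and_card f).mpr ⟨hf, ?_⟩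
    rw [← Subgroup.index_eq_card, ← Subgroup.index_eq_card]
    exact relIndex_eq_index_of_coprime H K h
  obtain ⟨⟨k⟩, hk⟩ := hbij.2 ((g⁻¹ : G) : G ⧸ H)
  have hk' : (k : G)⁻¹ * g⁻¹ ∈ H := (QuotientGroup.eq (s := H)).mp hk
  refine ⟨((k : G)⁻¹ * g⁻¹)⁻¹, H.inv_mem hk', (k : G)⁻¹, K.inv_mem k.2, ?_⟩
  group

theorem factor_symm {H K : Subgroup G} (h : ∀ g : G, ∃ x ∈ H, ∃ y ∈ K, g = x * y) (g : G) :
    ∃ y ∈ K, ∃ x ∈ H, g = y * x := by
  obtain ⟨x, hx, y, hy, hg⟩ := h g⁻¹
  exact ⟨y⁻¹, K.inv_mem hy, x⁻¹, H.inv_mem hx, by rw [← mul_inv_rev, ← hg, inv_inv]⟩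

/-- **Wielandt**: `G = H₁H₂ = H₁H₃` with all three solvable and `|G:H₂|`, `|G:H₃|` coprime forces
`G` solvable. -/
theorem isSolvable_of_three [Finite G] (H₁ H₂ H₃ : Subgroup G)
    (h₁ : Group.IsSolvable H₁) (h₂ : Group.IsSolvable H₂) (h₃ : Group.IsSolvable H₃)
    (h12 : ∀ g : G, ∃ x ∈ H₁, ∃ y ∈ H₂, g = x * y) (h13 : ∀ g : G, ∃ x ∈ H₁, ∃ y ∈ H₃, g = x * y)
    (hcop : H₂.index.Coprime H₃.index) : Group.IsSolvable G := by
  induction hn : Nat.card G using Nat.strong_induction_on generalizing G with
  | _ n ih =>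
    subst hn
    by_cases hb : H₁ = ⊥
    · have h2t : H₂ = ⊤ := by
        refine eq_top_iff.mpr fun g _ => ?_
        obtain ⟨x, hx, y, hy, rfl⟩ := h12 g
        rw [hb, Subgroup.mem_bot] at hx
        simpa [hx] using hy
      subst h2t
      haveI := h₂
      exact Group.isSolvable_of_surjective (f := (Subgroup.topEquiv (G := G)).toMonoidHom)
        (MulEquiv.surjective _)
    haveI : Nontrivial H₁ := (Subgroup.nontrivial_iff_ne_bot H₁).mpr hb
    haveI := h₁
    obtain ⟨p, hp, M₀, hM₀n, hM₀p, hM₀ne⟩ := SZ.exists_normal_pSubgroup H₁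
    haveI := Fact.mk hp
    haveI := hM₀n
    set M : Subgroup G := M₀.map H₁.subtype with hM
    have hMne : M ≠ ⊥ := by
      rwa [hM, Ne, Subgroup.map_eq_bot_iff_of_injective _ H₁.subtype_injective]
    have hMn : ∀ h ∈ H₁, MulAut.conj h • M = M := fun h hh => by
      have : MulAut.conj (⟨h, hh⟩ : H₁) • M₀ = M₀ := Subgroup.Normal.conj_smul_eq_self _ _
      rw [hM]
      conv_rhs => rw [← this]
      rw [SZ.map_conj_smul]
      rfl
    -- some `Hᵢ`, `i = 2, 3`, contains `M`
    have key : ∃ L : Subgroup G, Group.IsSolvable L ∧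
        (∀ g : G, ∃ x ∈ H₁, ∃ y ∈ L, g = x * y) ∧ ¬ p ∣ L.index := by
      by_cases h : p ∣ H₂.index
      · exact ⟨H₃, h₃, h13, fun h' => hp.not_dvd_one (hcop ▸ Nat.dvd_gcd h h')⟩
      · exact ⟨H₂, h₂, h12, h⟩
    obtain ⟨L, hLs, hLf, hLp⟩ := key
    obtain ⟨P, hMP⟩ := (hM₀p.map H₁.subtype).exists_le_sylow
    obtain ⟨Q⟩ := (inferInstance : Nonempty (Sylow p L))
    have hQG : ¬ p ∣ ((Q : Subgroup L).map L.subtype).index := by
      rw [Subgroup.index_map, Subgroup.ker_subtype, sup_bot_eq, Subgroup.range_subtype]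
      exact fun h => (hp.dvd_mul.mp h).elim Q.not_dvd_index hLp
    let Q' : Sylow p G := (Q.2.map L.subtype).toSylow hQG
    obtain ⟨g, hg⟩ := MulAction.exists_smul_eq G Q' P
    have hPL : (P : Subgroup G) ≤ MulAut.conj g • L := by
      rw [← hg, Sylow.coe_subgroup_smul]
      refine Subgroup.pointwise_smul_le_pointwise_smul_iff.mpr ?_
      rw [IsPGroup.toSylow_coe]
      exact Subgroup.map_subtype_le _
    obtain ⟨x, hx, y, hy, hgxy⟩ := hLf g
    have hML : M ≤ L := by
      have h1 : M ≤ MulAut.conj g • L := hMP.trans hPL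
      rw [hgxy, ← SZ.conj_smul_smul, Subgroup.conj_smul_eq_self_of_mem hy] at h1
      rw [← hMn x hx] at h1
      exact Subgroup.pointwise_smul_le_pointwise_smul_iff.mp h1
    set N := Subgroup.normalClosure (M : Set G) with hN
    have hNL : N ≤ L := by
      rw [hN, Subgroup.normalClosure, Subgroup.closure_le]
      intro c hc
      obtain ⟨m, hm, hmc⟩ := Group.mem_conjugatesOfSet_iff.mp hc
      obtain ⟨a, rfl⟩ := isConj_iff.mp hmc
      obtain ⟨y, hy, x, hx, rfl⟩ := factor_symm hLf a
      have h1 : x * m * x⁻¹ ∈ M := by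
        have := Subgroup.smul_mem_pointwise_smul m (MulAut.conj x) M hm
        rwa [hMn x hx] at this
      have h2 : y * x * m * (y * x)⁻¹ = y * (x * m * x⁻¹) * y⁻¹ := by group
      rw [h2]
      exact L.mul_mem (L.mul_mem hy (hML h1)) (L.inv_mem hy)
    have hNne : N ≠ ⊥ := fun h => hMne (le_bot_iff.mp (h ▸ Subgroup.le_normalClosure))
    haveI : N.Normal := Subgroup.normalClosure_normal
    haveI : Group.IsSolvable N :=
      Group.isSolvable_of_isSolvable_injective (Subgroup.inclusion_injective hNL)
    set q := QuotientGroup.mk' N with hq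
    have hqs : Function.Surjective q := QuotientGroup.mk'_surjective N
    have hlt : Nat.card (G ⧸ N) < Nat.card G := by
      rw [Subgroup.card_eq_card_quotient_mul_card_subgroup N]
      exact lt_mul_of_one_lt_right Nat.card_pos (N.one_lt_card_iff_ne_bot.mpr hNne)
    have hfac : ∀ A B : Subgroup G, (∀ g : G, ∃ x ∈ A, ∃ y ∈ B, g = x * y) →
        ∀ z : G ⧸ N, ∃ x ∈ A.map q, ∃ y ∈ B.map q, z = x * y := by
      intro A B hAB z
      obtain ⟨g, rfl⟩ := hqs z
      obtain ⟨x, hx, y, hy, rfl⟩ := hAB g
      exact ⟨q x, Subgroup.mem_map_of_mem q hx, q y, Subgroup.mem_map_of_mem q hy, map_mul q x y⟩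
    have hsol : ∀ A : Subgroup G, Group.IsSolvable A → Group.IsSolvable (A.map q) :=
      fun A hA => Group.isSolvable_of_surjective (q.subgroupMap_surjective A)
    have hquot : Group.IsSolvable (G ⧸ N) := ih _ hlt (H₁.map q) (H₂.map q) (H₃.map q)
      (hsol _ h₁) (hsol _ h₂) (hsol _ h₃) (hfac _ _ h12) (hfac _ _ h13)
      ((hcop.coprime_dvd_left (H₂.index_map_dvd hqs)).coprime_dvd_right (H₃.index_map_dvd hqs)) rfl
    exact Group.isSolvable_of_ker_le_range N.subtype q
      (by rw [hq, QuotientGroup.ker_mk', Subgroup.range_subtype])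

/-- **Hall's converse**: a group with a p-complement for every prime is solvable. -/
theorem isSolvable_of_complements [Finite G]
    (h : ∀ p : ℕ, p.Prime → ∃ H : Subgroup G, H.index = p ^ (Nat.card G).factorization p) :
    Group.IsSolvable G := by
  induction hn : Nat.card G using Nat.strong_induction_on generalizing G with
  | _ n ih =>
    subst hn
    by_cases hs : ∀ s ∈ (Nat.card G).primeFactors, ∀ t ∈ (Nat.card G).primeFactors,
        ∀ r ∈ (Nat.card G).primeFactors, s = t ∨ s = r ∨ t = r
    · -- at most two prime divisors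
      obtain ⟨p, q, hp, hq, hpq⟩ : ∃ p q : ℕ, p.Prime ∧ q.Prime ∧
          ∀ s ∈ (Nat.card G).primeFactors, s = p ∨ s = q := by
        rcases (Nat.card G).primeFactors.eq_empty_or_nonempty with he | ⟨p, hp⟩
        · exact ⟨2, 2, Nat.prime_two, Nat.prime_two, by simp [he]⟩
        · by_cases hq : ∀ s ∈ (Nat.card G).primeFactors, s = p
          · exact ⟨p, p, Nat.prime_of_mem_primeFactors hp, Nat.prime_of_mem_primeFactors hp,
              fun s hs' => Or.inl (hq s hs')⟩
          · push_neg at hq
            obtain ⟨q, hq, hqp⟩ := hq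
            refine ⟨p, q, Nat.prime_of_mem_primeFactors hp, Nat.prime_of_mem_primeFactors hq,
              fun s hs' => ?_⟩
            rcases hs s hs' p hp q hq with h1 | h1 | h1
            · exact Or.inl h1
            · exact Or.inr h1
            · exact absurd h1.symm hqp
      refine Burnside.isSolvable_of_card_eq_prime_pow_mul (p := p) (q := q)
        (a := (Nat.card G).factorization p)
        (b := if q = p then 0 else (Nat.card G).factorization q) hp hq ?_
      have hn0 : Nat.card G ≠ 0 := Nat.card_pos.ne'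
      refine Nat.eq_of_factorization_eq hn0
        (mul_ne_zero (pow_ne_zero _ hp.ne_zero) (pow_ne_zero _ hq.ne_zero)) fun s => ?_
      rw [Nat.factorization_mul (pow_ne_zero _ hp.ne_zero) (pow_ne_zero _ hq.ne_zero),
        hp.factorization_pow, hq.factorization_pow, Finsupp.add_apply]
      by_cases hsp : s = p
      · subst hsp
        by_cases hqs : q = s <;> simp [hqs]
      · by_cases hsq : s = q
        · subst hsq
          simp [hsp]
        · rw [Finsupp.single_eq_of_ne hsp, Finsupp.single_eq_of_ne hsq, add_zero]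
          by_contra hne
          have hmem : s ∈ (Nat.card G).primeFactors := by
            rw [← Nat.support_factorization, Finsupp.mem_support_iff]; exact hne
          exact (hpq s hmem).elim hsp hsq
    · push_neg at hs
      obtain ⟨p, hp, q, hq, r, hr, hpq, hpr, hqr⟩ := hs
      have hppr := Nat.prime_of_mem_primeFactors hp
      have hqpr := Nat.prime_of_mem_primeFactors hq
      have hrpr := Nat.prime_of_mem_primeFactors hr
      have hsol : ∀ s ∈ (Nat.card G).primeFactors, ∀ H : Subgroup G,
          H.index = s ^ (Nat.card G).factorization s → Group.IsSolvable H := by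
        intro s hs H hH
        have hspr := Nat.prime_of_mem_primeFactors hs
        have hpos : 0 < (Nat.card G).factorization s :=
          hspr.factorization_pos_of_dvd Nat.card_pos.ne' (Nat.dvd_of_mem_primeFactors hs)
        have hlt : Nat.card H < Nat.card G := by
          rw [← H.card_mul_index, hH]
          exact lt_mul_of_one_lt_right Nat.card_pos (Nat.one_lt_pow hpos.ne' hspr.one_lt)
        have hfac : ∀ t, (Nat.card H).factorization t =
            if t = s then 0 else (Nat.card G).factorization t := by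
          intro t
          have h1 := congrArg (fun k => k.factorization t) H.card_mul_index
          beta_reduce at h1
          rw [Nat.factorization_mul Nat.card_pos.ne' Subgroup.index_ne_zero_of_finite, hH,
            hspr.factorization_pow, Finsupp.add_apply] at h1
          split_ifs with hts
          · subst hts
            rw [Finsupp.single_eq_same] at h1
            omega
          · rw [Finsupp.single_eq_of_ne hts, add_zero] at h1
            exact h1
        refine ih _ hlt (fun t ht => ?_) rfl
        by_cases hts : t = s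
        · subst hts
          exact ⟨⊤, by rw [Subgroup.index_top, hfac, if_pos rfl, pow_zero]⟩
        · obtain ⟨K, hK⟩ := h t ht
          refine ⟨K.subgroupOf H, ?_⟩
          show K.relIndex H = _
          rw [relIndex_eq_index_of_coprime K H, hK, hfac, if_neg hts]
          rw [hK, hH]
          exact Nat.Coprime.pow _ _ ((Nat.coprime_primes ht hspr).mpr hts)
      obtain ⟨A, hA⟩ := h p hppr
      obtain ⟨B, hB⟩ := h q hqpr
      obtain ⟨C, hC⟩ := h r hrpr
      have hc : ∀ {s t : ℕ} {X Y : Subgroup G}, s.Prime → t.Prime → s ≠ t →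
          X.index = s ^ (Nat.card G).factorization s → Y.index = t ^ (Nat.card G).factorization t →
          X.index.Coprime Y.index := by
        intro s t X Y hsp htp hst hX hY
        rw [hX, hY]
        exact Nat.Coprime.pow _ _ ((Nat.coprime_primes hsp htp).mpr hst)
      exact isSolvable_of_three A B C (hsol p hp A hA) (hsol q hq B hB) (hsol r hr C hC)
        (exists_mul_of_coprime_index A B (hc hppr hqpr hpq hA hB))
        (exists_mul_of_coprime_index A C (hc hppr hrpr hpr hA hC))
        (hc hqpr hrpr hqr hB hC)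

end Cfsg.Agent.Lib.Hall
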