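import Mathlib
import Cfsg.Agent.Lib.Hall.Solvable
import Cfsg.Agent.Lib.Hall.Factor

/-!
Sylow systems: their existence in solvable groups and the solvability of groups having one.
-/

set_option autoImplicit false
open Pointwise

namespace Cfsg.Agent.Lib.Hall

universe u

variable {G : Type u} [Group G] [Finite G]

theorem coprime_sylow_card {p q : Nat.Primes} (h : p ≠ q) (P : Sylow (p : ℕ) G)
    (Q : Sylow (q : ℕ) G) :
    (Nat.card (P : Subgroup G)).Coprime (Nat.card (Q : Subgroup G)) := by
  haveI := Fact.mk p.2
  haveI := Fact.mk q.2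
  obtain ⟨a, ha⟩ := P.2.exists_card_eq
  obtain ⟨b, hb⟩ := Q.2.exists_card_eq
  rw [ha, hb]
  exact Nat.Coprime.pow _ _ ((Nat.coprime_primes p.2 q.2).mpr fun he => h (Subtype.ext he))

theorem coe_sup_of_permutable {A B : Subgroup G}
    (h : (A : Set G) * (B : Set G) = (B : Set G) * (A : Set G)) :
    ((A ⊔ B : Subgroup G) : Set G) = (A : Set G) * (B : Set G) := by
  let P : Subgroup G :=
    { carrier := (A : Set G) * (B : Set G)
      mul_mem' := by
        rintro _ _ ⟨a, ha, b, hb, rfl⟩ ⟨a', ha', b', hb', rfl⟩
        obtain ⟨a'', ha'', b'', hb'', he⟩ :=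
          show b * a' ∈ (A : Set G) * (B : Set G) by rw [h]; exact Set.mul_mem_mul hb ha'
        refine ⟨a * a'', A.mul_mem ha ha'', b'' * b', B.mul_mem hb'' hb', ?_⟩
        show a * a'' * (b'' * b') = a * b * (a' * b')
        have he' : a'' * b'' = b * a' := he
        rw [show a * b * (a' * b') = a * (b * a') * b' by group, ← he']
        group
      one_mem' := ⟨1, A.one_mem, 1, B.one_mem, mul_one 1⟩
      inv_mem' := by
        rintro _ ⟨a, ha, b, hb, rfl⟩
        show (a * b)⁻¹ ∈ (A : Set G) * (B : Set G)
        rw [mul_inv_rev, h]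
        exact Set.mul_mem_mul (B.inv_mem hb) (A.inv_mem ha) }
  refine le_antisymm ?_ ?_
  · show (A ⊔ B : Subgroup G) ≤ P
    exact sup_le (fun a ha => ⟨a, ha, 1, B.one_mem, mul_one a⟩)
      (fun b hb => ⟨1, A.one_mem, b, hb, one_mul b⟩)
  · rintro _ ⟨a, ha, b, hb, rfl⟩
    exact Subgroup.mul_mem_sup ha hb

theorem card_sup_of_permutable {A B : Subgroup G}
    (h : (A : Set G) * (B : Set G) = (B : Set G) * (A : Set G))
    (hc : (Nat.card A).Coprime (Nat.card B)) :
    Nat.card (A ⊔ B : Subgroup G) = Nat.card A * Nat.card B := by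
  have hd : A ⊓ B = ⊥ := Subgroup.inf_eq_bot_of_coprime hc
  have hinj : Function.Injective (fun x : A × B => (x.1 : G) * x.2) :=
    Subgroup.mul_injective_of_disjoint (disjoint_iff.mpr hd)
  calc Nat.card (A ⊔ B : Subgroup G) = Nat.card ((A : Set G) * (B : Set G) : Set G) :=
        Nat.card_congr (Equiv.setCongr (coe_sup_of_permutable h))
    _ = Nat.card (Set.range fun x : A × B => (x.1 : G) * x.2) := by
        congr 2
        ext z
        constructor
        · rintro ⟨a, ha, b, hb, rfl⟩
          exact ⟨(⟨a, ha⟩, ⟨b, hb⟩), rfl⟩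
        · rintro ⟨⟨a, b⟩, rfl⟩
          exact ⟨a, a.2, b, b.2, rfl⟩
    _ = Nat.card (A × B) := Nat.card_range_of_injective hinj
    _ = Nat.card A * Nat.card B := Nat.card_prod _ _

/-- A finite group with a Sylow system is solvable. -/
theorem isSolvable_of_sylow_system (S : (p : Nat.Primes) → Sylow (p : ℕ) G)
    (hS : ∀ p q : Nat.Primes, (S p : Set G) * (S q : Set G) = (S q : Set G) * (S p : Set G)) :
    Group.IsSolvable G := by
  classical
  refine isSolvable_of_complements fun p hp => ?_
  let P : Nat.Primes := ⟨p, hp⟩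
  have key : ∀ s : Finset Nat.Primes,
      (∀ q : Nat.Primes, (S q : Set G) * ((s.sup fun r => (S r : Subgroup G) : Subgroup G) : Set G) =
        ((s.sup fun r => (S r : Subgroup G) : Subgroup G) : Set G) * (S q : Set G)) ∧
      Nat.card (s.sup fun r => (S r : Subgroup G) : Subgroup G) =
        ∏ r ∈ s, Nat.card (S r : Subgroup G) := by
    intro s
    induction s using Finset.induction_on with
    | empty =>
      refine ⟨fun q => ?_, by simp⟩
      simp [Set.mul_singleton, Set.singleton_mul]
    | @insert a s ha ih =>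
      obtain ⟨ih1, ih2⟩ := ih
      have hcop : (Nat.card (S a : Subgroup G)).Coprime
          (Nat.card (s.sup fun r => (S r : Subgroup G) : Subgroup G)) := by
        rw [ih2]
        exact Nat.Coprime.prod_right fun r hr =>
          coprime_sylow_card (fun h : a = r => ha (h ▸ hr)) _ _
      refine ⟨fun q => ?_, ?_⟩
      · rw [Finset.sup_insert, coe_sup_of_permutable (A := (S a : Subgroup G)) (ih1 a)]
        calc (S q : Set G) * ((S a : Set G) * ((s.sup fun r => (S r : Subgroup G) : Subgroup G) : Set G))
            = (S a : Set G) * ((S q : Set G) * ((s.sup fun r => (S r : Subgroup G) : Subgroup G) : Set G)) := by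
              rw [← mul_assoc, hS q a, mul_assoc]
          _ = _ := by rw [ih1 q, ← mul_assoc]; rfl
      · rw [Finset.sup_insert, card_sup_of_permutable (ih1 a) hcop, ih2, Finset.prod_insert ha]
  set n := Nat.card G with hn
  let ι : {q : ℕ // q ∈ n.primeFactors.erase p} → Nat.Primes := fun q =>
    ⟨q.1, Nat.prime_of_mem_primeFactors (Finset.mem_of_mem_erase q.2)⟩
  have hι : Function.Injective ι := fun x y hxy =>
    Subtype.ext (congrArg (fun z : Nat.Primes => (z : ℕ)) hxy)
  let s : Finset Nat.Primes := (n.primeFactors.erase p).attach.image ι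
  refine ⟨s.sup fun r => (S r : Subgroup G), ?_⟩
  have hcard : Nat.card (s.sup fun r => (S r : Subgroup G) : Subgroup G) =
      ∏ q ∈ n.primeFactors.erase p, q ^ n.factorization q := by
    refine (key s).2.trans ((Finset.prod_image (f := fun r : Nat.Primes => Nat.card (S r : Subgroup G))
      (g := ι) hι.injOn).trans ?_)
    conv_rhs => rw [← Finset.prod_attach]
    refine Finset.prod_congr rfl fun q _ => ?_
    haveI := Fact.mk (Nat.prime_of_mem_primeFactors (Finset.mem_of_mem_erase q.2))
    exact (S _).card_eq_multiplicity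
  have h1 := (s.sup fun r => (S r : Subgroup G)).card_mul_index
  have h2 : (∏ q ∈ n.primeFactors.erase p, q ^ n.factorization q) * p ^ n.factorization p = n := by
    have h3 : ∏ q ∈ n.primeFactors, q ^ n.factorization q = n :=
      (Nat.prod_primeFactors_pow_factorization Nat.card_pos.ne').symm
    by_cases hmem : p ∈ n.primeFactors
    · rw [mul_comm, Finset.mul_prod_erase _ (fun q => q ^ n.factorization q) hmem, h3]
    · rw [Finset.erase_eq_of_notMem hmem, h3]
      have : n.factorization p = 0 := by
        rwa [← Finsupp.notMem_support_iff, Nat.support_factorization]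
      rw [this, pow_zero, mul_one]
  have hpos : 0 < Nat.card (s.sup fun r => (S r : Subgroup G) : Subgroup G) := Nat.card_pos
  rw [hcard] at h1 hpos
  exact Nat.eq_of_mul_eq_mul_left hpos (h1.trans h2.symm)

/-- A finite solvable group has a Sylow system. -/
theorem exists_sylow_system [Group.IsSolvable G] :
    ∃ S : (p : Nat.Primes) → Sylow (p : ℕ) G,
      ∀ p q : Nat.Primes, (S p : Set G) * (S q : Set G) = (S q : Set G) * (S p : Set G) := by
  classical
  set n := Nat.card G with hn
  have hn0 : n ≠ 0 := Nat.card_pos.ne'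
  have hex : ∀ p : ℕ, p ∈ n.primeFactors → ∃ K : Subgroup G, K.index = p ^ n.factorization p := by
    intro p hp
    have hpp := Nat.prime_of_mem_primeFactors hp
    have hd : p ^ n.factorization p ∣ n := Nat.ordProj_dvd n p
    obtain ⟨K, hK⟩ := exists_card_eq (G := G) (m := n / p ^ n.factorization p)
      (k := p ^ n.factorization p) (Nat.div_mul_cancel hd).symm
      (Nat.Coprime.pow_right _ (Nat.coprime_ordCompl hpp hn0).symm)
    refine ⟨K, ?_⟩
    have h1 := K.card_mul_index
    rw [hK] at h1
    exact Nat.eq_of_mul_eq_mul_left (Nat.ordCompl_pos p hn0)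
      (h1.trans (Nat.div_mul_cancel hd).symm)
  choose! K hK using hex
  have hindex : ∀ s : Finset ℕ, s ⊆ n.primeFactors →
      (s.inf K).index = ∏ q ∈ s, q ^ n.factorization q := by
    intro s
    induction s using Finset.induction_on with
    | empty => intro _; simp
    | @insert a s ha ih =>
      intro hs
      have ha' := hs (Finset.mem_insert_self a s)
      have hs' : s ⊆ n.primeFactors := (Finset.subset_insert a s).trans hs
      rw [Finset.inf_insert, index_inf_of_coprime, hK a ha', ih hs', Finset.prod_insert ha]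
      rw [hK a ha', ih hs']
      refine Nat.Coprime.prod_right fun q hq => Nat.Coprime.pow _ _ ?_
      exact (Nat.coprime_primes (Nat.prime_of_mem_primeFactors ha')
        (Nat.prime_of_mem_primeFactors (hs' hq))).mpr fun h => ha (h ▸ hq)
  have hprod : ∀ s : Finset ℕ, s ⊆ n.primeFactors →
      Nat.card (s.inf K : Subgroup G) = ∏ q ∈ n.primeFactors \ s, q ^ n.factorization q := by
    intro s hs
    have h1 := (s.inf K).card_mul_index
    rw [hindex s hs, ← hn] at h1
    have h2 : (∏ q ∈ n.primeFactors \ s, q ^ n.factorization q) *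
        ∏ q ∈ s, q ^ n.factorization q = n := by
      rw [Finset.prod_sdiff hs]
      exact (Nat.prod_primeFactors_pow_factorization hn0).symm
    refine Nat.eq_of_mul_eq_mul_right ?_ (h1.trans h2.symm)
    exact Finset.prod_pos fun q hq => pow_pos (Nat.prime_of_mem_primeFactors (hs hq)).pos _
  have hcardS : ∀ p : Nat.Primes,
      Nat.card ((n.primeFactors.erase p).inf K : Subgroup G) = (p : ℕ) ^ n.factorization p := by
    intro p
    rw [hprod _ (Finset.erase_subset _ _)]
    by_cases hmem : (p : ℕ) ∈ n.primeFactors
    · rw [Finset.sdiff_erase hmem, Finset.sdiff_self, Finset.insert_empty, Finset.prod_singleton]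
    · rw [Finset.erase_eq_of_notMem hmem, Finset.sdiff_self, Finset.prod_empty]
      have : n.factorization p = 0 := by
        rwa [← Finsupp.notMem_support_iff, Nat.support_factorization]
      rw [this, pow_zero]
  have hsyl : ∀ p : Nat.Primes, ∃ S : Sylow (p : ℕ) G,
      (S : Subgroup G) = (n.primeFactors.erase p).inf K := by
    intro p
    haveI := Fact.mk p.2
    exact ⟨Sylow.ofCard _ (hcardS p), rfl⟩
  choose S hSK using hsyl
  refine ⟨S, fun p q => ?_⟩
  by_cases hpq : p = q
  · rw [hpq]
  set T := ((n.primeFactors.erase p).erase q).inf K with hT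
  have hpT : (S p : Subgroup G) ≤ T := by
    rw [hSK]; exact Finset.inf_mono (Finset.erase_subset _ _)
  have hqT : (S q : Subgroup G) ≤ T := by
    rw [hSK, hT, Finset.erase_right_comm]; exact Finset.inf_mono (Finset.erase_subset _ _)
  have hTc : Nat.card T = (p : ℕ) ^ n.factorization p * (q : ℕ) ^ n.factorization q := by
    have hne : (p : ℕ) ≠ q := fun h => hpq (Subtype.ext h)
    have hsub : n.primeFactors \ ((n.primeFactors.erase p).erase q) =
        ({(p : ℕ), (q : ℕ)} : Finset ℕ).filter (· ∈ n.primeFactors) := by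
      ext x
      simp only [Finset.mem_sdiff, Finset.mem_erase, Finset.mem_filter, Finset.mem_insert,
        Finset.mem_singleton]
      tauto
    rw [hT, hprod _ ((Finset.erase_subset _ _).trans (Finset.erase_subset _ _)), hsub,
      Finset.prod_filter, Finset.prod_insert (by simpa using hne), Finset.prod_singleton]
    have hz : ∀ r : ℕ, (if r ∈ n.primeFactors then r ^ n.factorization r else 1) =
        r ^ n.factorization r := by
      intro r
      split_ifs with h
      · rfl
      · have : n.factorization r = 0 := by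
          rwa [← Finsupp.notMem_support_iff, Nat.support_factorization]
        rw [this, pow_zero]
    rw [hz, hz]
  have hset : ∀ A B : Subgroup G, A ≤ T → B ≤ T → Nat.card A * Nat.card B = Nat.card T →
      (Nat.card A).Coprime (Nat.card B) → (A : Set G) * (B : Set G) = (T : Set G) := by
    intro A B hA hB hc hco
    refine Set.Subset.antisymm ?_ fun t ht => ?_
    · rintro _ ⟨a, ha, b, hb, rfl⟩
      exact T.mul_mem (hA ha) (hB hb)
    have hcompl : Subgroup.IsComplement' (A.subgroupOf T) (B.subgroupOf T) := by
      refine Subgroup.isComplement'_of_coprime ?_ ?_ <;>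
        rw [SZ.card_subgroupOf hA, SZ.card_subgroupOf hB]
      · exact hc
      · exact hco
    obtain ⟨⟨a, b⟩, hab⟩ := hcompl.2 ⟨t, ht⟩
    exact ⟨(a : T), a.2, (b : T), b.2, congrArg Subtype.val hab⟩
  have hcop := coprime_sylow_card hpq (S p) (S q)
  have hcp : Nat.card (S p : Subgroup G) = (p : ℕ) ^ n.factorization p := by rw [hSK, hcardS]
  have hcq : Nat.card (S q : Subgroup G) = (q : ℕ) ^ n.factorization q := by rw [hSK, hcardS]
  show ((S p : Subgroup G) : Set G) * ((S q : Subgroup G) : Set G) =
    ((S q : Subgroup G) : Set G) * ((S p : Subgroup G) : Set G)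
  rw [hset _ _ hpT hqT (by rw [hcp, hcq, hTc]) hcop,
    hset _ _ hqT hpT (by rw [hcp, hcq, hTc, mul_comm]) hcop.symm]

end Cfsg.Agent.Lib.Hall
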