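import Mathlib
import Cfsg.Agent.Lib.Hall.Solvable
import Cfsg.Agent.Lib.PSolvable.Core

/-!
Hall theory for p-soluble groups: p-complements and Sylow p-subgroups.
-/

set_option autoImplicit false
open Pointwise

namespace Cfsg.Agent.Lib.Hall

universe u

variable {G : Type u} [Group G] [Finite G]

/-- A p-factor is solvable, in the form required by `piSeries_of_chain`. -/
theorem exists_derivedSeries_map_le_of_relIndex {p m : ℕ} [hp : Fact p.Prime] (A B : Subgroup G)
    [A.Normal] (h : A.relIndex B = p ^ m) :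
    ∃ k, (derivedSeries B k).map B.subtype ≤ A := by
  have hq : IsPGroup p (B ⧸ A.subgroupOf B) := IsPGroup.of_card (n := m) (by rw [← h]; rfl)
  haveI := hq.isNilpotent
  obtain ⟨k, hk⟩ := (inferInstance : Group.IsSolvable (B ⧸ A.subgroupOf B)).solvable
  refine ⟨k, ?_⟩
  rw [← map_derivedSeries_eq (QuotientGroup.mk'_surjective (A.subgroupOf B)) k,
    Subgroup.map_eq_bot_iff, QuotientGroup.ker_mk'] at hk
  exact Subgroup.map_le_iff_le_comap.mpr hk

theorem piSeries_compl_of_isPSolvable {p : ℕ} [hp : Fact p.Prime] (h : Cfsg.IsPSolvable p G) :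
    PiSeries ({p}ᶜ) G := by
  obtain ⟨n, H, h0, hl, hm, hn, hs⟩ := h
  refine piSeries_of_chain H h0 hl hm hn fun i => ?_
  haveI := hn i.castSucc
  rcases hs i with ⟨m, hm'⟩ | hc
  · right
    refine ⟨?_, Or.inl (exists_derivedSeries_map_le_of_relIndex _ _ hm')⟩
    rw [hm', compl_compl]
    exact isPiNumber_pow_prime (π := {p}) hp.out (Set.mem_singleton p) m
  · left
    intro q hq hd hqp
    rw [Set.mem_singleton_iff] at hqp
    subst hqp
    exact hp.out.coprime_iff_not_dvd.mp hc.symm hd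

theorem hallProperties_compl_of_isPSolvable {p : ℕ} [hp : Fact p.Prime]
    (h : Cfsg.IsPSolvable p G) : HallProperties ({p}ᶜ) G :=
  (piSeries_compl_of_isPSolvable h).hallProperties

theorem isPiHall_compl_iff {p : ℕ} [hp : Fact p.Prime] (H : Subgroup G) :
    Cfsg.IsPiHall ({p}ᶜ) H ↔ (Nat.card H).Coprime p ∧ ∃ n : ℕ, H.index = p ^ n := by
  rw [isPiHall_iff, compl_compl]
  refine and_congr ⟨fun h => ?_, fun h q hq hd hqp => ?_⟩ ⟨fun h => ?_, fun ⟨n, hn⟩ => ?_⟩
  · exact (hp.out.coprime_iff_not_dvd.mpr fun hd => h p hp.out hd (Set.mem_singleton p)).symm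
  · rw [Set.mem_singleton_iff] at hqp
    subst hqp
    exact hp.out.coprime_iff_not_dvd.mp h.symm hd
  · exact ⟨_, Nat.eq_prime_pow_of_unique_prime_dvd Subgroup.index_ne_zero_of_finite
      fun {q} hq hd => h q hq hd⟩
  · rw [hn]
    exact isPiNumber_pow_prime (π := {p}) hp.out (Set.mem_singleton p) n

theorem isPiNumber_compl_of_coprime {p n : ℕ} [hp : Fact p.Prime] (h : n.Coprime p) :
    IsPiNumber ({p}ᶜ) n := fun q hq hd hqp => by
  rw [Set.mem_singleton_iff] at hqp
  subst hqp
  exact hp.out.coprime_iff_not_dvd.mp h.symm hd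

end Cfsg.Agent.Lib.Hall
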